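import Mathlib

/-!
# The Eakin–Nagata theorem (via Formanek's argument)
-/

set_option autoImplicit false

universe u v

namespace Groth.Agent.EakinNagata

variable (B : Type u) [CommRing B] (A : Type v) [CommRing A] [Algebra B A] [Module.Finite B A]

theorem isNoetherian_of_finite [IsNoetherianRing A] : IsNoetherian B A := by
  classical
  by_contra hA
  let S : Set (Ideal A) :=
    {J | (∃ I : Ideal B, I.map (algebraMap B A) = J) ∧ ¬ IsNoetherian B (A ⧸ J)}
  have hne : S.Nonempty := by
    refine ⟨⊥, ⟨⊥, Ideal.map_bot⟩, fun h => hA ?_⟩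
    exact isNoetherian_of_injective (Ideal.Quotient.mkₐ B (⊥ : Ideal A)).toLinearMap
      (fun x y hxy => by simpa [Ideal.Quotient.eq, sub_eq_zero] using hxy)
  obtain ⟨J, ⟨⟨I, hI⟩, hJ⟩, hmax⟩ := set_has_maximal_iff_noetherian.mpr ‹_› S hne
  apply hJ
  set K : Ideal B := Ideal.comap (algebraMap B A) J with hK
  -- quotients by elements outside `K` are Noetherian
  have hquot : ∀ b : B, b ∉ K → IsNoetherian B (A ⧸ (J ⊔ Ideal.span {algebraMap B A b})) := by
    intro b hb
    by_contra h
    refine hmax _ ⟨⟨I ⊔ Ideal.span {b}, ?_⟩, h⟩ ?_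
    · rw [Ideal.map_sup, hI, Ideal.map_span, Set.image_singleton]
    · refine lt_of_le_of_ne le_sup_left fun he => hb ?_
      show algebraMap B A b ∈ J
      rw [he]
      exact Ideal.mem_sup_right (Ideal.mem_span_singleton_self _)
  obtain ⟨gs, hgs⟩ := (Module.Finite.fg_top : (⊤ : Submodule B (A ⧸ J)).FG)
  let T : Set (Submodule B (A ⧸ J)) := {N | ∀ b : B, b ∉ K → ∃ g ∈ gs, b • g ∉ N}
  have hbot : (⊥ : Submodule B (A ⧸ J)) ∈ T := by
    intro b hb
    by_contra h
    push Not at h
    apply hb
    have hall : ∀ x ∈ Submodule.span B (gs : Set (A ⧸ J)), b • x = 0 := by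
      intro x hx
      induction hx using Submodule.span_induction with
      | mem y hy => exact (Submodule.mem_bot B).mp (h y hy)
      | zero => exact smul_zero b
      | add y z _ _ hy hz => rw [smul_add, hy, hz, add_zero]
      | smul r y _ hy => rw [smul_comm, hy, smul_zero]
    have h1 := hall 1 (hgs ▸ Submodule.mem_top)
    rwa [Algebra.smul_def, mul_one, ← Ideal.Quotient.mk_algebraMap,
      Ideal.Quotient.eq_zero_iff_mem] at h1
  obtain ⟨N, -, hN⟩ := zorn_le_nonempty₀ T (fun c hcT hc y hy => by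
    refine ⟨sSup c, fun b hb => ?_, fun z hz => le_sSup hz⟩
    by_contra h
    push Not at h
    have hdir : DirectedOn (· ≤ ·) c := hc.directedOn
    have key : ∀ s : Finset (A ⧸ J), s ⊆ gs → ∃ z ∈ c, ∀ g ∈ s, b • g ∈ z := by
      intro s
      induction s using Finset.induction with
      | empty => exact fun _ => ⟨y, hy, by simp⟩
      | insert a s _ ih =>
        intro hs
        obtain ⟨z, hz, hzs⟩ := ih (fun x hx => hs (Finset.mem_insert_of_mem hx))
        obtain ⟨z', hz', hz'a⟩ := (Submodule.mem_sSup_of_directed ⟨y, hy⟩ hdir).mp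
          (h a (hs (Finset.mem_insert_self a s)))
        obtain ⟨w, hw, hw1, hw2⟩ := hdir z hz z' hz'
        refine ⟨w, hw, fun g hg => ?_⟩
        rcases Finset.mem_insert.mp hg with rfl | hg
        · exact hw2 hz'a
        · exact hw1 (hzs g hg)
    obtain ⟨z, hz, hzg⟩ := key gs (subset_refl _)
    obtain ⟨g, hg, hg'⟩ := hcT hz b hb
    exact hg' (hzg g hg)) ⊥ hbot
  -- the maximal faithful quotient is Noetherian
  have hM' : IsNoetherian B ((A ⧸ J) ⧸ N) := by
    refine isNoetherian_def.mpr fun P => ?_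
    by_cases hP : P = ⊥
    · subst hP; exact Submodule.fg_bot
    obtain ⟨x, hxP, hx0⟩ := (Submodule.ne_bot_iff P).mp hP
    set P₀ : Submodule B ((A ⧸ J) ⧸ N) := B ∙ x with hP₀
    obtain ⟨b, hbK, hb⟩ : ∃ b : B, b ∉ K ∧ ∀ z : (A ⧸ J) ⧸ N, b • z ∈ P₀ := by
      by_contra h
      push Not at h
      have hmem : P₀.comap N.mkQ ∈ T := by
        intro b hb
        by_contra h'
        push Not at h'
        obtain ⟨z, hz⟩ := h b hb
        obtain ⟨z, rfl⟩ := N.mkQ_surjective z
        apply hz
        rw [← map_smul]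
        have hz' : z ∈ Submodule.span B (gs : Set (A ⧸ J)) := hgs ▸ Submodule.mem_top
        have : Submodule.span B (gs : Set (A ⧸ J)) ≤
            (P₀.comap N.mkQ).comap (LinearMap.lsmul B _ b) :=
          Submodule.span_le.mpr fun g hg => h' g hg
        exact this hz'
      obtain ⟨x', rfl⟩ := N.mkQ_surjective x
      have h1 : x' ∈ N := (hN.2 hmem (fun z hz => by
        simp [(Submodule.Quotient.mk_eq_zero N).mpr hz]) : P₀.comap N.mkQ ≤ N)
          (Submodule.mem_span_singleton_self _)
      exact hx0 ((Submodule.Quotient.mk_eq_zero N).mpr h1)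
    have hP₀noeth : IsNoetherian B (((A ⧸ J) ⧸ N) ⧸ P₀) := by
      have := hquot b hbK
      let φ : A →ₗ[B] ((A ⧸ J) ⧸ N) ⧸ P₀ :=
        P₀.mkQ ∘ₗ N.mkQ ∘ₗ (Ideal.Quotient.mkₐ B J).toLinearMap
      have hker : (J ⊔ Ideal.span {algebraMap B A b}).restrictScalars B ≤ LinearMap.ker φ := by
        intro a ha
        obtain ⟨j, hj, k, hk, rfl⟩ := Submodule.mem_sup.mp ha
        obtain ⟨m, rfl⟩ := Ideal.mem_span_singleton'.mp hk
        rw [LinearMap.mem_ker, map_add, mul_comm, ← Algebra.smul_def, map_smul]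
        have h1 : φ j = 0 := by
          simp [φ, Ideal.Quotient.eq_zero_iff_mem.mpr hj]
        obtain ⟨z, hz⟩ := P₀.mkQ_surjective (φ m)
        rw [h1, zero_add, ← hz, ← map_smul]
        exact (Submodule.Quotient.mk_eq_zero P₀).mpr (hb z)
      have : IsNoetherian B (A ⧸ (J ⊔ Ideal.span {algebraMap B A b}).restrictScalars B) :=
        isNoetherian_of_linearEquiv (Submodule.Quotient.restrictScalarsEquiv B _).symm
      refine isNoetherian_of_surjective (f := Submodule.liftQ _ φ hker) ?_
      rw [Submodule.range_liftQ, LinearMap.range_eq_top]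
      exact P₀.mkQ_surjective.comp (N.mkQ_surjective.comp Ideal.Quotient.mk_surjective)
    refine Submodule.fg_of_fg_map_of_fg_inf_ker P₀.mkQ (IsNoetherian.noetherian _) ?_
    rw [Submodule.ker_mkQ, inf_eq_right.mpr
      ((Submodule.span_singleton_le_iff_mem x P).mpr hxP)]
    exact Submodule.fg_span_singleton x
  -- hence `B ⧸ K` is a Noetherian module
  have hBK : IsNoetherian B (B ⧸ K) := by
    let ψ : B →ₗ[B] ({ g // g ∈ gs } → (A ⧸ J) ⧸ N) :=
      LinearMap.pi fun g => LinearMap.toSpanSingleton B _ (N.mkQ g.1)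
    have hker : LinearMap.ker ψ = K := by
      apply le_antisymm
      · intro b hb
        by_contra hbK
        obtain ⟨g, hg, hbg⟩ := hN.1 b hbK
        apply hbg
        have := congrFun (LinearMap.mem_ker.mp hb) ⟨g, hg⟩
        simpa [ψ, ← Submodule.Quotient.mk_smul, Submodule.Quotient.mk_eq_zero] using this
      · intro b hb
        rw [LinearMap.mem_ker]
        ext g
        simp only [ψ, LinearMap.pi_apply, LinearMap.toSpanSingleton_apply, Pi.zero_apply]
        rw [← map_smul, Algebra.smul_def, ← Ideal.Quotient.mk_algebraMap,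
          Ideal.Quotient.eq_zero_iff_mem.mpr (show algebraMap B A b ∈ J from hb), zero_mul,
          map_zero]
    rw [← hker]
    exact isNoetherian_of_linearEquiv ψ.quotKerEquivRange.symm
  -- and so is `A ⧸ J`
  let χ : ({ g // g ∈ gs } → B ⧸ K) →ₗ[B] A ⧸ J :=
    LinearMap.lsum B _ B fun g => Submodule.liftQ K (LinearMap.toSpanSingleton B _ g.1)
      (fun b hb => by
        rw [LinearMap.mem_ker, LinearMap.toSpanSingleton_apply, Algebra.smul_def,
          ← Ideal.Quotient.mk_algebraMap,
          Ideal.Quotient.eq_zero_iff_mem.mpr (show algebraMap B A b ∈ J from hb), zero_mul])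
  refine isNoetherian_of_surjective (f := χ) ?_
  rw [eq_top_iff, ← hgs, Submodule.span_le]
  intro g hg
  refine ⟨Pi.single ⟨g, hg⟩ (Submodule.Quotient.mk 1), ?_⟩
  simp [χ, Pi.single_apply, apply_ite]
  exact one_smul B g

/-- **Eakin–Nagata**: if `A` is a Noetherian ring, finite and faithful over `B`,
then `B` is Noetherian. -/
theorem isNoetherianRing_of_finite [FaithfulSMul B A] [IsNoetherianRing A] :
    IsNoetherianRing B := by
  have := isNoetherian_of_finite B A
  exact isNoetherianRing_iff.mpr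
    (isNoetherian_of_injective (Algebra.linearMap B A) (FaithfulSMul.algebraMap_injective B A))

end Groth.Agent.EakinNagata
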